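import Cfsg.Agent.MonsterX.ThreeCPack
import Mathlib.GroupTheory.Commutator.Basic

/-!
# An involution inverting `y` and centralizing the simple factor of `C(y) = ⟨y⟩ × T` (helper13)
-/

set_option autoImplicit false

namespace Cfsg.Agent.CpAutMSeven.AbsE

open Subgroup
open Cfsg.Agent.MonsterX.ThreeCPack (eq_one_of_central)
open scoped commutatorElement

variable {G : Type} [Group G]

/-- a simple nonabelian group is perfect -/
theorem perfect_of_simple {S : Type} [Group S] [IsSimpleGroup S] (hS : ¬ ∀ a b : S, a * b = b * a) :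
    commutator S = ⊤ := by
  rcases (inferInstance : (commutator S).Normal).eq_bot_or_eq_top with h | h
  · exfalso
    apply hS
    intro a b
    have h1 : ⁅a, b⁆ ∈ commutator S := commutator_mem_commutator (mem_top a) (mem_top b)
    rw [h, mem_bot, commutatorElement_eq_one_iff_mul_comm] at h1
    exact h1
  · exact h

/-- the elements of `C(y) = ⟨y⟩ × T` -/
theorem exists_split {S : Type} [Group S] [IsSimpleGroup S] (hS : ¬ ∀ a b : S, a * b = b * a) [Finite G]
    {y : G} {T : Subgroup G} (hT : T ≤ centralizer ({y} : Set G)) (e : T ≃* S)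
    (hc : Nat.card ↥(centralizer ({y} : Set G)) = orderOf y * Nat.card S) {g : G}
    (hg : g ∈ centralizer ({y} : Set G)) : ∃ a ∈ zpowers y, ∃ b ∈ T, g = a * b := by
  have hTy : ∀ t ∈ T, t * y = y * t := fun t ht => mem_centralizer_singleton_iff.mp (hT ht)
  have hpT : ∀ a ∈ zpowers y, ∀ t ∈ T, a * t = t * a := by
    rintro _ ⟨k, rfl⟩ t ht
    exact ((show Commute t y from hTy t ht).zpow_right k).symm
  have hdisj : ∀ a ∈ zpowers y, a ∈ T → a = 1 := fun a ha haT =>
    eq_one_of_central hS e haT (hpT a ha)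
  have hyC : y ∈ centralizer ({y} : Set G) := mem_centralizer_singleton_iff.mpr rfl
  let f : ↥(zpowers y) × ↥T → ↥(centralizer ({y} : Set G)) := fun p =>
    ⟨p.1 * p.2, mul_mem ((zpowers_le.2 hyC) p.1.2) (hT p.2.2)⟩
  have hf : Function.Injective f := by
    rintro ⟨a, b⟩ ⟨c, d⟩ h
    have h1 : (a : G) * b = c * d := congrArg Subtype.val h
    have h2 : (c : G)⁻¹ * a = d * (b : G)⁻¹ := by
      rw [inv_mul_eq_iff_eq_mul, ← mul_assoc, ← h1, mul_inv_cancel_right]
    have h3 : (c : G)⁻¹ * a = 1 :=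
      hdisj _ (mul_mem (inv_mem c.2) a.2) (by rw [h2]; exact mul_mem d.2 (inv_mem b.2))
    have h4 : (a : G) = c := (inv_mul_eq_one.mp h3).symm
    have h5 : (b : G) = d := by
      rw [h4] at h1
      exact mul_left_cancel h1
    exact Prod.ext (Subtype.ext h4) (Subtype.ext h5)
  have hfs : Function.Surjective f := by
    refine ((Nat.bijective_iff_injective_and_card f).mpr ⟨hf, ?_⟩).2
    rw [Nat.card_prod, Nat.card_zpowers, hc, Nat.card_congr e.toEquiv]
  obtain ⟨⟨a, b⟩, hab⟩ := hfs ⟨g, hg⟩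
  exact ⟨a, a.2, b, b.2, (congrArg Subtype.val hab).symm⟩

/-- **An involution inverting `y` and centralizing `T`.** -/
theorem exists_invol {S : Type} [Group S] [IsSimpleGroup S] (hS : ¬ ∀ a b : S, a * b = b * a)
    (hinn : ∀ α : S ≃* S, ∃ s : S, ∀ x, α x = s * x * s⁻¹) [Finite G] {y : G} (hy : orderOf y = 3)
    {T : Subgroup G} (hT : T ≤ centralizer ({y} : Set G)) (e : T ≃* S)
    (hc : Nat.card ↥(centralizer ({y} : Set G)) = orderOf y * Nat.card S) {k : G} (hk : k * y * k⁻¹ = y⁻¹) :
    ∃ g : G, orderOf g = 2 ∧ T ≤ centralizer ({g} : Set G) ∧ g * y * g⁻¹ = y⁻¹ := by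
  have hTy : ∀ t ∈ T, t * y = y * t := fun t ht => mem_centralizer_singleton_iff.mp (hT ht)
  have hpT : ∀ a ∈ zpowers y, ∀ t ∈ T, a * t = t * a := by
    rintro _ ⟨m, rfl⟩ t ht
    exact ((show Commute t y from hTy t ht).zpow_right m).symm
  have hsplit := fun {g : G} (hg : g ∈ centralizer ({y} : Set G)) => exists_split hS hT e hc hg
  have hy3 : y * y * y = 1 := by
    have h1 := pow_orderOf_eq_one y
    rw [hy, pow_succ, pow_two] at h1
    exact h1
  have hyne : y ≠ 1 := by
    rintro rfl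
    rw [orderOf_one] at hy
    omega
  -- `T` is perfect
  have hperf : ⁅T, T⁆ = T := by
    have h1 := perfect_of_simple hS
    have h2 : commutator ↥T = ⊤ := by
      have h3 : (commutator S).map e.symm.toMonoidHom = commutator ↥T := by
        rw [commutator_def, map_commutator, ← MonoidHom.range_eq_map,
          MonoidHom.range_eq_top.2 e.symm.surjective, ← commutator_def]
      rw [← h3, h1, ← MonoidHom.range_eq_map]
      exact MonoidHom.range_eq_top.2 e.symm.surjective
    have h3 : (commutator ↥T).map T.subtype = ⁅T, T⁆ := by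
      rw [commutator_def, map_commutator, ← MonoidHom.range_eq_map, range_subtype]
    rw [← h3, h2, ← MonoidHom.range_eq_map, range_subtype]
  -- commutators of `C(y)` lie in `T`
  have hcomm : ⁅centralizer ({y} : Set G), centralizer ({y} : Set G)⁆ ≤ T := by
    rw [commutator_le]
    intro g hg h hh
    obtain ⟨a, ha, b, hb, rfl⟩ := hsplit hg
    obtain ⟨c, hc', d, hd, rfl⟩ := hsplit hh
    have hac : a * c = c * a := by
      obtain ⟨m, rfl⟩ := ha
      obtain ⟨n, rfl⟩ := hc'
      exact (Commute.refl y).zpow_zpow m n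
    have h1 : ⁅a * b, c * d⁆ = ⁅b, d⁆ := by
      have e1 : Commute a b := hpT a ha b hb
      have e2 : Commute a d := hpT a ha d hd
      have e3 : Commute c b := hpT c hc' b hb
      have e4 : Commute c d := hpT c hc' d hd
      have e5 : Commute a c := hac
      rw [commutatorElement_def, commutatorElement_def]
      have e6 : a * b * (c * d) = (b * d) * (a * c) := by
        calc a * b * (c * d) = (a * b) * (c * d) := rfl
          _ = (b * a) * (d * c) := by rw [e1.eq, e4.eq]
          _ = b * (a * d) * c := by simp only [mul_assoc]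
          _ = b * (d * a) * c := by rw [e2.eq]
          _ = _ := by simp only [mul_assoc]
      have e7 : (a * b)⁻¹ * (c * d)⁻¹ = (a * c)⁻¹ * (b⁻¹ * d⁻¹) := by
        rw [mul_inv_rev, mul_inv_rev, mul_inv_rev]
        have f1 : Commute b⁻¹ a⁻¹ := e1.symm.inv_inv
        have f2 : Commute b⁻¹ c⁻¹ := e3.symm.inv_inv
        have f3 : Commute d⁻¹ c⁻¹ := e4.symm.inv_inv
        have f4 : Commute a⁻¹ c⁻¹ := e5.inv_inv
        calc b⁻¹ * a⁻¹ * (d⁻¹ * c⁻¹) = (a⁻¹ * b⁻¹) * (c⁻¹ * d⁻¹) := by rw [f1.eq, f3.eq]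
          _ = a⁻¹ * (b⁻¹ * c⁻¹) * d⁻¹ := by simp only [mul_assoc]
          _ = a⁻¹ * (c⁻¹ * b⁻¹) * d⁻¹ := by rw [f2.eq]
          _ = (a⁻¹ * c⁻¹) * (b⁻¹ * d⁻¹) := by simp only [mul_assoc]
          _ = _ := by rw [f4.eq]
      calc a * b * (c * d) * (a * b)⁻¹ * (c * d)⁻¹ = (a * b * (c * d)) * ((a * b)⁻¹ * (c * d)⁻¹) := by
            simp only [mul_assoc]
        _ = (b * d) * (a * c) * ((a * c)⁻¹ * (b⁻¹ * d⁻¹)) := by rw [e6, e7]
        _ = _ := by group
    rw [h1]
    exact mul_mem (mul_mem (mul_mem hb hd) (inv_mem hb)) (inv_mem hd)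
  -- `k` normalizes `C(y)`
  have hkC : ∀ g ∈ centralizer ({y} : Set G), k * g * k⁻¹ ∈ centralizer ({y} : Set G) := by
    intro g hg
    have h1 : g * y = y * g := mem_centralizer_singleton_iff.1 hg
    have h2 : Commute (k * g * k⁻¹) y⁻¹ := by
      rw [← hk]
      show k * g * k⁻¹ * (k * y * k⁻¹) = k * y * k⁻¹ * (k * g * k⁻¹)
      calc k * g * k⁻¹ * (k * y * k⁻¹) = k * (g * y) * k⁻¹ := by group
        _ = k * (y * g) * k⁻¹ := by rw [h1]
        _ = _ := by group
    have h3 := h2.inv_right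
    rw [inv_inv] at h3
    exact mem_centralizer_singleton_iff.2 h3
  have hkT : ∀ g ∈ T, k * g * k⁻¹ ∈ T := by
    intro g hg
    rw [← hperf] at hg
    apply hcomm
    have h1 : (MulAut.conj k).toMonoidHom g ∈ (⁅T, T⁆).map (MulAut.conj k).toMonoidHom := mem_map_of_mem _ hg
    rw [map_commutator] at h1
    refine (commutator_mono ?_ ?_) h1 <;>
    · rintro _ ⟨t, ht, rfl⟩
      exact hkC t (hT ht)
  -- the automorphism
  let φ : ↥T →* ↥T := ((MulAut.conj k).toMonoidHom.comp T.subtype).codRestrict T fun t => hkT t t.2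
  have hφ : ∀ t : ↥T, ((φ t : ↥T) : G) = k * t * k⁻¹ := fun t => rfl
  have hφi : Function.Injective φ := by
    intro a b hab
    apply Subtype.ext
    have h1 : k * (a : G) * k⁻¹ = k * b * k⁻¹ := by rw [← hφ, ← hφ, hab]
    exact mul_left_cancel (mul_right_cancel h1)
  let α : ↥T ≃* ↥T := MulEquiv.ofBijective φ ((Finite.injective_iff_bijective).1 hφi)
  obtain ⟨s, hs⟩ := hinn ((e.symm.trans α).trans e)
  let t : ↥T := e.symm s
  have ht : ∀ x : ↥T, k * (x : G) * k⁻¹ = t * x * (t : G)⁻¹ := by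
    intro x
    have h1 := hs (e x)
    have h2 : ((e.symm.trans α).trans e) (e x) = e (φ x) := by
      show e (α (e.symm (e x))) = _
      rw [e.symm_apply_apply]
      rfl
    rw [h2] at h1
    have h3 : φ x = t * x * t⁻¹ := by
      apply e.injective
      rw [h1, map_mul, map_mul, map_inv]
      show _ = e (e.symm s) * e x * (e (e.symm s))⁻¹
      rw [e.apply_symm_apply]
    have h4 := congrArg Subtype.val h3
    rw [hφ] at h4
    exact h4
  have hyt : Commute (t : G) y := hTy t t.2
  set g : G := (t : G)⁻¹ * k with hgdef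
  have hgT : ∀ x ∈ T, g * x = x * g := by
    intro x hx
    have h1 := ht ⟨x, hx⟩
    have h2 : k * x * k⁻¹ = t * x * (t : G)⁻¹ := h1
    have h3 : k * x = t * x * (t : G)⁻¹ * k := by rw [← h2]; group
    rw [hgdef, mul_assoc, h3]
    group
  have hgy : g * y * g⁻¹ = y⁻¹ := by
    have h1 : g * y * g⁻¹ = (t : G)⁻¹ * (k * y * k⁻¹) * t := by rw [hgdef]; group
    rw [h1, hk]
    have h2 : Commute (t : G)⁻¹ y⁻¹ := hyt.inv_inv
    rw [h2.eq, inv_mul_cancel_right]
  have hg2C : g * g ∈ centralizer ({y} : Set G) := by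
    rw [mem_centralizer_singleton_iff]
    have h1 : g * y = y⁻¹ * g := mul_inv_eq_iff_eq_mul.1 hgy
    have h2 : g * y⁻¹ = y * g := by
      calc g * y⁻¹ = y * (y⁻¹ * g) * y⁻¹ := by group
        _ = y * (g * y) * y⁻¹ := by rw [h1]
        _ = y * g := by group
    rw [mul_assoc, h1, ← mul_assoc, h2, mul_assoc]
  obtain ⟨a, ha, b, hb, hab⟩ := hsplit hg2C
  have hb1 : b = 1 := by
    apply eq_one_of_central hS e hb
    intro u hu
    have h1 : Commute (g * g) u := (show Commute g u from hgT u hu).mul_left (hgT u hu)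
    have h2 : Commute a u := hpT a ha u hu
    have h3 : b = a⁻¹ * (g * g) := by rw [hab]; group
    rw [h3]
    exact (h2.inv_left.mul_left h1).eq
  rw [hb1, mul_one] at hab
  have hgg : g * g = 1 := by
    obtain ⟨m, rfl⟩ := ha
    have h1 : g * (y ^ m) * g⁻¹ = y ^ m := by
      change g * g = y ^ m at hab
      rw [← hab]; group
    have h2 : g * (y ^ m) * g⁻¹ = (y⁻¹) ^ m := by rw [← hgy, conj_zpow]
    rw [h1, inv_zpow] at h2
    have h3 : (y ^ m) * (y ^ m) = 1 := by
      nth_rewrite 1 [h2]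
      exact inv_mul_cancel _
    have h4 : (y ^ m) * (y ^ m) * (y ^ m) = 1 := by
      have h5 : y ^ m * y ^ m * y ^ m = (y * y * y) ^ m := by
        rw [((Commute.refl y).mul_left (Commute.refl y)).mul_zpow m, (Commute.refl y).mul_zpow m]
      rw [h5, hy3, one_zpow]
    change g * g = y ^ m at hab
    rw [hab]
    rw [h3, one_mul] at h4
    exact h4
  refine ⟨g, ?_, ?_, hgy⟩
  · have : Fact (Nat.Prime 2) := ⟨Nat.prime_two⟩
    refine orderOf_eq_prime (by rw [pow_two]; exact hgg) ?_
    intro h1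
    rw [h1, one_mul, inv_one, mul_one] at hgy
    apply hyne
    have h2 : y * y = 1 := by
      nth_rewrite 1 [hgy]
      exact inv_mul_cancel y
    rwa [h2, one_mul] at hy3
  · intro x hx
    exact mem_centralizer_singleton_iff.2 (hgT x hx).symm

end Cfsg.Agent.CpAutMSeven.AbsE
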