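import Cfsg.Agent.MSevenT.Closed

/-!
# Elements of order 7 of the Monster with a centralizer of even order (helper13)

`hex` : every such element commutes with a conjugate of `z` (the hypothesis `hev` of `MFive.Row.comps_model` and
`hex` of `PreUniq.MonRow.noPre_of`, for `p = 7`).  This is `MSevenT.hexOdd` of helper72.
-/

set_option autoImplicit false

namespace Cfsg.Agent.CpAutMSeven.Hex

open Subgroup Cfsg Cfsg.Agent.MonsterX Cfsg.Agent.MonsterU

/-- **Every element of order 7 of the Monster with a centralizer of even order commutes with a conjugate of `z`.** -/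
theorem hex {x : ↥InstData.M.G} (hx : orderOf x = 7) (hev : ¬ Odd (Nat.card ↥(centralizer ({x} : Set ↥InstData.M.G)))) :
    ∃ g : ↥InstData.M.G, (g * KDone.K.z * g⁻¹) * x = x * (g * KDone.K.z * g⁻¹) :=
  Cfsg.Agent.MSevenT.hexOdd x hx hev

end Cfsg.Agent.CpAutMSeven.Hex
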