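import Cfsg.Agent.CpAutBig.SevenPerm

/-!
# `pi7` is not conjugate to its third power in `M24` (helper26)

`no_conj` : no element of `M24` conjugates `pi7` to `pi7 ^ 3` (three octads whose images are determined).
-/

set_option autoImplicit false
open scoped Pointwise

namespace Cfsg.Agent.CpAutMSeven.NonReal

open Cfsg Cfsg.Agent.SporadicA.GolayBase Cfsg.Agent.SporadicStructure.TabPerm
open Cfsg.Agent.CpAutBig.FixCount Cfsg.Agent.CpAutBig.Tab Cfsg.Agent.CpAutBig.SevenPerm

/-- the exponents: `F7^[3 * EX i] 6 = i` -/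
def EX : List ℕ := [0, 0, 0, 0, 0, 0, 0, 0, 0, 0, 0, 0, 3, 0, 0, 5, 2, 6, 0, 4, 0, 1, 0, 0]

/-- the image of the point `i` of the nine points -/
def img (x y z i : ℕ) : ℕ :=
  if Nat.beq i 0 then x else if Nat.beq i 1 then y else (fun j => F7.getD j 0)^[EX.getD i 0] z

def m1 : ℕ := 9347075
def m2 : ℕ := 2605066
def m3 : ℕ := 6447171

/-- the candidates with the images of the three octads -/
def CERT : List ((ℕ × ℕ × ℕ) × (ℕ × ℕ × ℕ)) :=
  [((0, 1, 6), (737427, 4845570, 8505411)), ((0, 1, 12), (8505411, 10650722, 14716939)),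
   ((0, 1, 15), (1647171, 10825794, 45159)), ((0, 1, 16), (2754059, 705094, 1647171)),
   ((0, 1, 17), (14716939, 3739786, 2754059)), ((0, 1, 19), (2494627, 2296514, 737427)),
   ((0, 1, 21), (45159, 692282, 2494627)), ((0, 8, 6), (4924673, 628112, 1148257)),
   ((0, 8, 12), (1148257, 3328320, 3182981)), ((0, 8, 15), (9240913, 3216208, 39257)),
   ((0, 8, 16), (3031301, 951624, 9240913)), ((0, 8, 17), (3182981, 15274244, 3031301)),
   ((0, 8, 19), (6429441, 6750560, 4924673)), ((0, 8, 21), (39257, 702724, 6429441)),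
   ((1, 0, 2), (9963547, 5511305, 4196943)), ((1, 0, 4), (4470275, 9776129, 1188915)),
   ((1, 0, 10), (4505735, 6053905, 10765331)), ((1, 0, 11), (1188915, 5275709, 1116327)),
   ((1, 0, 18), (4196943, 4343317, 4470275)), ((1, 0, 20), (10765331, 8391797, 9963547)),
   ((1, 0, 22), (1116327, 2363013, 4505735)), ((1, 8, 2), (1186194, 14551296, 4409606)),
   ((1, 8, 4), (12944642, 1351424, 3179802)), ((1, 8, 10), (4989254, 5538256, 267634)),
   ((1, 8, 11), (3179802, 7479572, 3672838)), ((1, 8, 18), (4409606, 4261212, 12944642)),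
   ((1, 8, 20), (267634, 2120980, 1186194)), ((1, 8, 22), (3672838, 855332, 4989254)),
   ((8, 0, 3), (9969957, 12587685, 262637)), ((8, 0, 5), (8546577, 8431757, 12650793)),
   ((8, 0, 7), (12650793, 6570537, 4229001)), ((8, 0, 9), (262637, 418953, 283537)),
   ((8, 0, 13), (283537, 9519665, 8546577)), ((8, 0, 14), (4229001, 8922769, 3172097)),
   ((8, 0, 23), (3172097, 1075305, 9969957)), ((8, 1, 3), (12726562, 10093218, 198058)),
   ((8, 1, 5), (10543366, 10625178, 11272490)), ((8, 1, 7), (11272490, 608810, 525274)),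
   ((8, 1, 9), (198058, 90318, 1164162)), ((8, 1, 13), (1164162, 8704546, 10543366)),
   ((8, 1, 14), (525274, 12624578, 31554)), ((8, 1, 23), (31554, 2126890, 12726562))]

/-- `w` is an octad containing the images of the points of `m` among the nine. -/
def okw (x y z m w : ℕ) : Bool :=
  isCode w && Nat.beq (popcount w) 8 &&
    (List.range 24).all fun i => !((m &&& nine7).testBit i) || w.testBit (img x y z i)

/-- the condition on the entry -/
def okc (c : (ℕ × ℕ × ℕ) × (ℕ × ℕ × ℕ)) : Bool :=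
  okw c.1.1 c.1.2.1 c.1.2.2 m1 c.2.1 && okw c.1.1 c.1.2.1 c.1.2.2 m2 c.2.2.1 &&
    okw c.1.1 c.1.2.1 c.1.2.2 m3 c.2.2.2 && Nat.beq (popcount (c.2.1 &&& c.2.2.1 &&& c.2.2.2)) 3

theorem cert_map : CERT.map (fun c => c.1) = cand7 := by decide +kernel

theorem cert_ok : CERT.all okc = true := by decide +kernel

theorem m_check : ∀ m ∈ [m1, m2, m3], isCode m = true ∧ popcount m = 8 ∧ popcount (m &&& nine7) = 5 := by
  decide +kernel

theorem m_inter : popcount (m1 &&& m2 &&& m3) = 2 := by decide +kernel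

theorem ex_check : ∀ i < 24, nine7.testBit i = true → i = 0 ∨ i = 1 ∨
    (Nat.beq i 0 = false ∧ Nat.beq i 1 = false ∧ (fun j => F7.getD j 0)^[3 * EX.getD i 0] 6 = i) := by
  decide +kernel

variable {σ : Equiv.Perm GolayPt}

theorem iter_pow (hc : pi7 * σ = σ * pi7 ^ 3) (e : ℕ) (p : GolayPt) :
    (pi7 ^ e : Equiv.Perm GolayPt) (σ p) = σ ((pi7 ^ (3 * e) : Equiv.Perm GolayPt) p) := by
  induction e with
  | zero => rfl
  | succ e ih =>
    rw [pow_succ', Equiv.Perm.mul_apply, ih, Nat.mul_succ, Nat.add_comm (3 * e) 3, pow_add, Equiv.Perm.mul_apply]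
    exact DFunLike.congr_fun hc _

theorem fix_map (hc : pi7 * σ = σ * pi7 ^ 3) {p : GolayPt} (hp : pi7 p = p) : pi7 (σ p) = σ p := by
  have h1 := iter_pow hc 1 p
  rw [pow_one] at h1
  rw [h1]
  have h2 : ∀ e : ℕ, (pi7 ^ e : Equiv.Perm GolayPt) p = p := by
    intro e
    induction e with
    | zero => rfl
    | succ e ih => rw [pow_succ', Equiv.Perm.mul_apply, ih, hp]
  rw [h2]

theorem inv_iter {o : ℕ} (hoi : invm F7 o = true) (e : ℕ) (p : GolayPt) :
    (pi7 ^ e : Equiv.Perm GolayPt) p ∈ fin o ↔ p ∈ fin o := by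
  have hinv : ∀ p, pi7 p ∈ fin o ↔ p ∈ fin o := by
    intro p
    rw [mem_fin, mem_fin, idx_pi7]
    unfold invm at hoi
    rw [List.all_eq_true] at hoi
    have h3 := hoi (idx p) (List.mem_range.2 (idx_lt p))
    rw [beq_iff_eq] at h3
    rw [h3]
  induction e with
  | zero => rfl
  | succ e ih =>
    rw [pow_succ', Equiv.Perm.mul_apply]
    exact (hinv _).trans ih

theorem smul_O7 (hσ : σ ∈ M24) (hc : pi7 * σ = σ * pi7 ^ 3) {p : GolayPt} (hp : pi7 p = p) :
    σ • fin (O7 (idx p)) = fin (O7 (idx (σ p))) := by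
  have h1 := O7_check _ (idx_lt p) ((fix_iff p).1 hp)
  have h2 := O7_check _ (idx_lt (σ p)) ((fix_iff (σ p)).1 (fix_map hc hp))
  have h3 : fin (O7 (idx p)) ∈ octads := (fin_mem_octads_iff (isCode_lt h1.1)).2 ⟨h1.1, h1.2.1⟩
  have h4 := smul_mem_octads hσ h3
  have h5 : ∀ q, pi7 q ∈ σ • fin (O7 (idx p)) ↔ q ∈ σ • fin (O7 (idx p)) := by
    intro q
    obtain ⟨r, rfl⟩ := σ.surjective q
    have h6 := iter_pow hc 1 r
    rw [pow_one] at h6
    have h7 : ∀ r, σ r ∈ σ • fin (O7 (idx p)) ↔ r ∈ fin (O7 (idx p)) := fun r =>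
      Finset.smul_mem_smul_finset_iff σ
    rw [h6, h7, h7, inv_iter h1.2.2.1]
  have h8 : maskOf (σ • fin (O7 (idx p))) ∈ W7 := mem_words chk7 W7_check h4.1 h5
  have h9 : popcount (maskOf (σ • fin (O7 (idx p)))) = 8 := by
    rw [← card_eq_popcount]
    exact h4.2
  have h10 : σ p ∈ σ • fin (O7 (idx p)) := by
    apply Finset.smul_mem_smul_finset
    rw [mem_fin]
    exact h1.2.2.2.1
  have h11 : (maskOf (σ • fin (O7 (idx p)))).testBit (idx (σ p)) = true := by
    rw [← mem_fin, fin_maskOf]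
    exact h10
  have h12 := h2.2.2.2.2 _ h8 h9 h11
  rw [← h12, fin_maskOf]

theorem triple_mem (hσ : σ ∈ M24) (hc : pi7 * σ = σ * pi7 ^ 3) :
    (idx (σ (pt 0)), idx (σ (pt 1)), idx (σ (pt 6))) ∈ cand7 := by
  have hfix : ∀ p, pi7 p = p → pi7 (σ p) = σ p := fun p hp => fix_map hc hp
  have hne : ∀ {i j : ℕ}, i < 24 → j < 24 → i ≠ j → idx (σ (pt i)) ≠ idx (σ (pt j)) := by
    intro i j hi hj h h2
    have h3 := σ.injective (idx_injective h2)
    have h4 := congrArg idx h3
    rw [idx_pt hi, idx_pt hj] at h4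
    exact h h4
  apply mem_cand7 ((fix_iff _).1 (hfix _ (pi7_fix (Or.inl rfl))))
    ((fix_iff _).1 (hfix _ (pi7_fix (Or.inr (Or.inl rfl))))) (hne (by norm_num) (by norm_num) (by norm_num)) (idx_lt _)
    (hne (by norm_num) (by norm_num) (by norm_num))
  rw [← mem_fin, ← smul_O7 hσ hc (pi7_fix (Or.inl rfl))]
  apply Finset.smul_mem_smul_finset
  rw [mem_fin, idx_pt (by norm_num), idx_pt (by norm_num)]
  decide +kernel

theorem idx_img (hc : pi7 * σ = σ * pi7 ^ 3) {p : GolayPt} (hp : nine7.testBit (idx p) = true) :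
    idx (σ p) = img (idx (σ (pt 0))) (idx (σ (pt 1))) (idx (σ (pt 6))) (idx p) := by
  rcases ex_check _ (idx_lt p) hp with h | h | ⟨h0, h1, h⟩
  · have h2 : p = pt 0 := by rw [← pt_idx p, h]
    rw [h, h2]
    rfl
  · have h2 : p = pt 1 := by rw [← pt_idx p, h]
    rw [h, h2]
    rfl
  · have h4 : (pi7 ^ (3 * EX.getD (idx p) 0) : Equiv.Perm GolayPt) (pt 6) = p := by
      apply idx_injective
      rw [show idx ((pi7 ^ (3 * EX.getD (idx p) 0) : Equiv.Perm GolayPt) (pt 6)) =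
        (fun j => F7.getD j 0)^[3 * EX.getD (idx p) 0] (idx (pt 6)) from
        idx_iter chk7 _ _, idx_pt (by norm_num), h]
    have h5 := iter_pow hc (EX.getD (idx p) 0) (pt 6)
    rw [h4] at h5
    rw [← h5, show idx ((pi7 ^ (EX.getD (idx p) 0) : Equiv.Perm GolayPt) (σ (pt 6))) =
        (fun j => F7.getD j 0)^[EX.getD (idx p) 0] (idx (σ (pt 6))) from idx_iter chk7 _ _]
    unfold img
    rw [h0, h1]
    rfl

theorem smul_oct (hσ : σ ∈ M24) (hc : pi7 * σ = σ * pi7 ^ 3) {m w : ℕ} (hm : m ∈ [m1, m2, m3])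
    (hw : okw (idx (σ (pt 0))) (idx (σ (pt 1))) (idx (σ (pt 6))) m w = true) : σ • fin m = fin w := by
  obtain ⟨h1, h2, h3⟩ := m_check m hm
  unfold okw at hw
  rw [Bool.and_eq_true, Bool.and_eq_true, List.all_eq_true] at hw
  obtain ⟨⟨w1, w2⟩, w3⟩ := hw
  have w2' : popcount w = 8 := Nat.eq_of_beq_eq_true w2
  have h4 : fin m ∈ octads := (fin_mem_octads_iff (isCode_lt h1)).2 ⟨h1, h2⟩
  have h5 : fin w ∈ octads := (fin_mem_octads_iff (isCode_lt w1)).2 ⟨w1, w2'⟩
  apply octad_unique (smul_mem_octads hσ h4) h5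
  have h6 : σ • fin (m &&& nine7) ⊆ σ • fin m ∩ fin w := by
    intro q hq
    rw [Finset.mem_smul_finset] at hq
    obtain ⟨p, hp, rfl⟩ := hq
    rw [Finset.mem_inter]
    have hp' := hp
    rw [fin_and, Finset.mem_inter] at hp'
    refine ⟨Finset.smul_mem_smul_finset hp'.1, ?_⟩
    rw [mem_fin]
    have h7 := w3 (idx p) (List.mem_range.2 (idx_lt p))
    rw [mem_fin] at hp
    rw [hp, Bool.not_true, Bool.false_or] at h7
    change w.testBit (idx (σ p)) = true
    rw [idx_img hc (mem_fin.1 hp'.2)]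
    exact h7
  have h7 := Finset.card_le_card h6
  rw [Finset.card_smul_finset, card_fin, h3] at h7
  exact h7

/-- **`pi7` is not conjugate to its third power in `M24`.** -/
theorem no_conj (hσ : σ ∈ M24) : pi7 * σ ≠ σ * pi7 ^ 3 := by
  intro hc
  have h1 := triple_mem hσ hc
  rw [← cert_map, List.mem_map] at h1
  obtain ⟨⟨t, w⟩, h2, h3⟩ := h1
  have h4 := List.all_eq_true.1 cert_ok _ h2
  change t = _ at h3
  subst h3
  unfold okc at h4
  rw [Bool.and_eq_true, Bool.and_eq_true, Bool.and_eq_true] at h4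
  obtain ⟨⟨⟨k1, k2⟩, k3⟩, k4⟩ := h4
  have g1 := smul_oct hσ hc (m := m1) (List.mem_cons_self) k1
  have g2 := smul_oct hσ hc (m := m2) (List.mem_cons_of_mem _ List.mem_cons_self) k2
  have g3 := smul_oct hσ hc (m := m3) (List.mem_cons_of_mem _ (List.mem_cons_of_mem _ List.mem_cons_self)) k3
  have k5 : popcount (w.1 &&& w.2.1 &&& w.2.2) = 3 := Nat.eq_of_beq_eq_true k4
  have g4 : σ • fin (m1 &&& m2 &&& m3) = fin (w.1 &&& w.2.1 &&& w.2.2) := by
    rw [fin_and, fin_and, fin_and, fin_and, Finset.smul_finset_inter, Finset.smul_finset_inter, g1, g2, g3]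
  have g5 := congrArg Finset.card g4
  rw [Finset.card_smul_finset, card_fin, card_fin, m_inter, k5] at g5
  omega

end Cfsg.Agent.CpAutMSeven.NonReal
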