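import Cfsg.Agent.BpRankZero.MRow
import Cfsg.Agent.LThree.Base
import Cfsg.Agent.SignalizersComponents.PConstrained
import Cfsg.Agent.CpAutMSeven.SixRow
import Cfsg.Agent.BpRankZero.MSix

/-!
# The row `seven.m` of S1814: the elements of order 7 and fixed rank 0 (helper13)

`z` is the only involution of `C(x) ∩ C(z)`, `7³` divides `|C(x)|` and not `|C(x) ∩ C(z)|`: `C(x)` has no 7-component
(helper62, helper41), so `C(x)/O_{7'}(C(x))` has no component.

* `comps_of_none` : no `p`-component, no component of `H/O_{p'}(H)`;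
* `comps_zero` : fixed rank 0, the concrete model.
-/

set_option autoImplicit false
set_option maxRecDepth 100000

namespace Cfsg.Agent.CpAutMSeven.ZeroComps

open Cfsg Cfsg.Spor Cfsg.Agent.BpTab Cfsg.Agent.MonsterX.KSide Cfsg.Agent.MonsterX.KLift
open Cfsg.Agent.MonsterU.Lam2 Cfsg.Agent.MonsterU.Ch
open Cfsg.Agent.LeechMat.Core
open Cfsg.Agent.LThree (Comps)
open Cfsg.Agent.LThreeMB (fr XX Zx Zx_le_center zD KChart.Cent KChart.pi KChart.chart)
open Cfsg.Agent.BpRankZero Cfsg.Agent.BpRankZero.Seven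
open Subgroup (centralizer zpowers mem_centralizer_singleton_iff mem_zpowers mem_zpowers_iff)

universe u

/-- no `p`-component: no component of `H / O_{p'}(H)` -/
theorem comps_of_none {H : Type u} [Group H] [Finite H] {p : ℕ} (h : ∀ L : Subgroup H, ¬ IsPComponent p L) :
    Comps p H := by
  intro K hK
  obtain ⟨L, hL, -⟩ := SignalizersComponents.PConstrained.exists_isPComponent_map_eq p hK
  exact absurd hL (h L)

section KS

variable {G : Type u} {V P W : Type*} [Group G] [AddCommGroup V] [Module ℚ V]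
  [DistribMulAction G V] [SMulCommClass G ℚ V] [Group P] [AddCommGroup W] [Module ℚ W]
  {M : KS G V P W} {θ : leechLattice → P}

/-- fixed rank 0: `7³` divides `|C(x)|` (helper62, helper41) -/
theorem cube_zero [Finite G] (L : Lift M θ) (hc : LThreeMB.KChart.Cent M) {x r : centralizer ({M.z} : Set G)}
    (hx : orderOf x = 7) (hfr : fr (LThreeMB.KChart.pi hc x) = 1) (hr : orderOf r = 7)
    (hfr' : fr (LThreeMB.KChart.pi hc r) ≠ 1)
    (h4 : ∀ y : centralizer ({M.z} : Set G), orderOf y = 7 → fr (LThreeMB.KChart.pi hc y) ≠ 1 →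
      7 ^ 4 ∣ Nat.card ↥(centralizer ({(y : G)} : Set G))) : 7 ^ 3 ∣ Nat.card ↥(centralizer ({(x : G)} : Set G)) := by
  have h := LThreeMB.KChart.chart L hc
  have hp : Nat.Prime 7 := by norm_num
  have hx7 : x ^ 7 = 1 := by rw [← hx, pow_orderOf_eq_one]
  obtain ⟨g, hg⟩ := exists_partner hp (not_dvd_cz h) hx hr
  set v := g * r * g⁻¹ with hv
  have hov : orderOf v = 7 := by
    rw [← hr, hv]
    exact orderOf_injective (MulAut.conj g).toMonoidHom (MulAut.conj g).injective r
  have hfv : fr (LThreeMB.KChart.pi hc v) ≠ 1 := by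
    rw [hv, map_mul, map_mul, map_inv, LThreeMB.fr_conj]
    exact hfr'
  have hvx : v ∉ zpowers x := by
    intro hmem
    have h1 : zpowers v = zpowers x := by
      refine Subgroup.eq_of_le_of_card_ge (Subgroup.zpowers_le.2 hmem) ?_
      rw [Nat.card_zpowers, Nat.card_zpowers, hx, hov]
    have h2 : x ∈ zpowers v := h1 ▸ mem_zpowers x
    obtain ⟨i, hi⟩ := mem_zpowers_iff.1 h2
    have h3 : LThreeMB.KChart.pi hc x ∈ zpowers (LThreeMB.KChart.pi hc v) := by
      rw [mem_zpowers_iff]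
      exact ⟨i, by rw [← map_zpow, hi]⟩
    have h5 := fr_le_of_mem h3
    rw [hfr] at h5
    have h6 : 0 < fr (LThreeMB.KChart.pi hc v) := by
      have : Nonempty {w : L2 // LThreeMB.KChart.pi hc v • w = w} := ⟨⟨0, smul_zero _⟩⟩
      exact Nat.card_pos
    exact hfv (by omega)
  have hz2 : orderOf M.z = 2 := by
    have := MFive.orderOf_zD h x
    rw [← Subgroup.orderOf_coe] at this
    exact this
  refine (BpMon.cube_dvd (G := G) hp (x := (x : G)) (v := (v : G)) (z := M.z) (by rw [Subgroup.orderOf_coe, hx])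
    (by rw [Subgroup.orderOf_coe, hov]) hz2 (congrArg Subtype.val hg) (mem_centralizer_singleton_iff.1 x.2)
    (mem_centralizer_singleton_iff.1 v.2) ?_ (h4 v hov hfv) (not_dvd_cz h) ?_).trans
    (Subgroup.card_dvd_of_le inf_le_left)
  · intro hmem
    obtain ⟨i, hi⟩ := mem_zpowers_iff.1 hmem
    exact hvx (mem_zpowers_iff.2 ⟨i, Subtype.ext (by rw [← hi]; rfl)⟩)
  · intro u hux _ huz huu
    have hux' : u ∈ centralizer ({(x : G)} : Set G) := mem_centralizer_singleton_iff.2 hux
    rcases only_zD L hc hx7 hfr ⟨u, hux'⟩ (Subtype.ext huu) (Subtype.ext huz) with h5 | h5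
    · exact Or.inl (congrArg Subtype.val h5)
    · exact Or.inr (congrArg Subtype.val h5)

/-- fixed rank 0: `C(x)` has no 7-component -/
theorem none_zero (FT : ∀ (K : Type u) [Group K] [Finite K], Odd (Nat.card K) → Group.IsSolvable K) [Finite G]
    (L : Lift M θ) (hc : LThreeMB.KChart.Cent M) {x r : centralizer ({M.z} : Set G)} (hx : orderOf x = 7)
    (hfr : fr (LThreeMB.KChart.pi hc x) = 1) (hr : orderOf r = 7) (hfr' : fr (LThreeMB.KChart.pi hc r) ≠ 1)
    (h4 : ∀ y : centralizer ({M.z} : Set G), orderOf y = 7 → fr (LThreeMB.KChart.pi hc y) ≠ 1 →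
      7 ^ 4 ∣ Nat.card ↥(centralizer ({(y : G)} : Set G)))
    (K : Subgroup ↥(centralizer ({(x : G)} : Set G))) : ¬ IsPComponent 7 K := by
  intro hK
  have h := LThreeMB.KChart.chart L hc
  have hp : Nat.Prime 7 := by norm_num
  have hx7 : x ^ 7 = 1 := by rw [← hx, pow_orderOf_eq_one]
  exact PreUniq.MonSeven.not_dvd L hc hx7 hfr
    (dvd_of_pcomp FT hp (MFive.orderOf_zD h x) (only_zD L hc hx7 hfr) hK (cube_zero L hc hx hfr hr hfr' h4))

end KS

section model

open Cfsg.Agent.MonsterX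

/-- **Fixed rank 0**, from `7³ ∣ |XX y|` for the elements of fixed rank 6. -/
theorem comps_zero_of (h6 : ∀ y : centralizer ({KDone.K.z} : Set ↥InstData.M.G), orderOf y = 7 →
      fr (KChart.pi MFive.Row.hc y) = 2 ^ 6 → 7 ^ 3 ∣ Nat.card (XX (y : ↥InstData.M.G)))
    {x : centralizer ({KDone.K.z} : Set ↥InstData.M.G)} (hx : orderOf x = 7)
    (hfr : fr (KChart.pi MFive.Row.hc x) = 1) : Comps 7 ↥(centralizer ({(x : ↥InstData.M.G)} : Set ↥InstData.M.G)) := by
  have := MFive.Row.finite_model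
  have h := KChart.chart KDone.lft MFive.Row.hc
  have hp : Nat.Prime 7 := by norm_num
  obtain ⟨r, hr, hr6⟩ := MRow.exists_six
  refine comps_of_none (none_zero (fun K _ _ => Cfsg.Agent.S0205.result) KDone.lft MFive.Row.hc hx hfr hr
    (by rw [hr6]; norm_num) fun y hy hfy => ?_)
  have h1 : fr (KChart.pi MFive.Row.hc y) = 2 ^ 6 :=
    (CpAutMSeven.Ranks.hranks _ (MFive.orderOf_pi h hp (by decide) hy)).resolve_left hfy
  rw [Seven.card_cent, Subgroup.orderOf_coe, hy, show 7 ^ 4 = 7 ^ 3 * 7 by norm_num]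
  exact Nat.mul_dvd_mul_right (h6 y hy h1) 7

/-- **`C(x)/⟨x⟩ ≅ He`**, fixed rank 6 (helper31, helper59, helper62) -/
theorem heSix : MRow.HeSix := fun x hx hfr => MSix.isoHe_of hx hfr (SixRow.heHyp x hx hfr)

/-- **Fixed rank 0.** -/
theorem comps_zero {x : centralizer ({KDone.K.z} : Set ↥InstData.M.G)} (hx : orderOf x = 7)
    (hfr : fr (KChart.pi MFive.Row.hc x) = 1) : Comps 7 ↥(centralizer ({(x : ↥InstData.M.G)} : Set ↥InstData.M.G)) :=
  comps_zero_of (fun y hy hfy => by
    rw [(MRow.he_facts (heSix y hy hfy)).2]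
    norm_num) hx hfr

end model

end Cfsg.Agent.CpAutMSeven.ZeroComps
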